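import Mathlib.Algebra.Homology.HomologicalComplexAbelian
import Mathlib.Algebra.Homology.Additive
import Mathlib.CategoryTheory.Abelian.Exact
import Mathlib.Algebra.Homology.QuasiIso
import Mathlib.CategoryTheory.Abelian.Basic

/-!
Functors which are exact on a class closed under cokernels of monomorphisms preserve exactness of
long exact sequences in that class.
-/

set_option autoImplicit false

universe v u v' u'

open CategoryTheory CategoryTheory.Limits

namespace Groth.Agent.RFPlus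

variable {C : Type u} [Category.{v} C] [Abelian C] {D : Type u'} [Category.{v'} D] [Abelian D]
  (F : C ⥤ D) [F.Additive] (P : C → Prop)
  (hP : ∀ S : ShortComplex C, S.ShortExact → P S.X₁ → P S.X₂ → P S.X₃ ∧ (S.map F).ShortExact)

include hP in
/-- One step: `0 → W → L₀ → L₁ → L₂` exact splits off `0 → W' → L₁ → L₂` exact. -/
theorem classExact_step {W L₀ L₁ L₂ : C} (m : W ⟶ L₀) (d : L₀ ⟶ L₁) (d' : L₁ ⟶ L₂)
    (w : m ≫ d = 0) (w' : d ≫ d' = 0) [Mono m] (h : (ShortComplex.mk m d w).Exact)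
    (h' : (ShortComplex.mk d d' w').Exact) (hW : P W) (hL₀ : P L₀) :
    ∃ (W' : C) (p : L₀ ⟶ W') (m' : W' ⟶ L₁) (w'' : m' ≫ d' = 0),
      Mono m' ∧ p ≫ m' = d ∧ P W' ∧ (ShortComplex.mk m' d' w'').Exact ∧
      Mono (F.map m) ∧ Epi (F.map p) ∧
      ∃ wp : F.map m ≫ F.map p = 0, (ShortComplex.mk (F.map m) (F.map p) wp).Exact := by
  let S := ShortComplex.mk m (cokernel.π m) (cokernel.condition m)
  have hS : S.ShortExact := { exact := ShortComplex.exact_cokernel m }
  obtain ⟨hQ, hFS⟩ := hP S hS hW hL₀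
  have w'' : cokernel.desc m d w ≫ d' = 0 := by
    rw [← cancel_epi (cokernel.π m), cokernel.π_desc_assoc, w', comp_zero]
  refine ⟨cokernel m, cokernel.π m, cokernel.desc m d w, w'', h.mono_cokernelDesc,
    cokernel.π_desc _ _ _, hQ, ?_, hFS.mono_f, hFS.epi_g,
    by rw [← F.map_comp, cokernel.condition, F.map_zero], hFS.exact⟩
  let φ : ShortComplex.mk d d' w' ⟶ ShortComplex.mk (cokernel.desc m d w) d' w'' :=
    { τ₁ := cokernel.π m
      τ₂ := 𝟙 _
      τ₃ := 𝟙 _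
      comm₁₂ := (cokernel.π_desc _ _ _).trans (Category.comp_id _).symm
      comm₂₃ := (Category.id_comp _).trans (Category.comp_id _).symm }
  have : Epi φ.τ₁ := (inferInstance : Epi (cokernel.π m))
  have : IsIso φ.τ₂ := (inferInstance : IsIso (𝟙 L₁))
  have : Mono φ.τ₃ := (inferInstance : Mono (𝟙 L₂))
  exact (ShortComplex.exact_iff_of_epi_of_isIso_of_mono φ).1 h'

include hP in
/-- If `0 → W → Lⁿ → Lⁿ⁺¹ → ⋯` is exact with all terms in `P`, its image by `F` is exact. -/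
theorem classExact_map (L : CochainComplex C ℤ) (n : ℤ) {W : C} (m : W ⟶ L.X n) [Mono m]
    (w : m ≫ L.d n (n + 1) = 0) (hm : (ShortComplex.mk m (L.d n (n + 1)) w).Exact) (hW : P W)
    (hL : ∀ k, n ≤ k → P (L.X k)) (hex : ∀ k, n < k → L.ExactAt k) :
    Mono (F.map m) ∧
      (∃ wF : F.map m ≫ F.map (L.d n (n + 1)) = 0,
        (ShortComplex.mk (F.map m) (F.map (L.d n (n + 1))) wF).Exact) ∧
      ∀ k, n < k → ((F.mapHomologicalComplex (ComplexShape.up ℤ)).obj L).ExactAt k := by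
  have hex' : ∀ k, n < k → (ShortComplex.mk (L.d (k - 1) k) (L.d k (k + 1)) (L.d_comp_d _ _ _)).Exact :=
    fun k hk => (L.exactAt_iff' (k - 1) k (k + 1) (by simp) (by simp)).1 (hex k hk)
  have step : ∀ (k : ℤ), n ≤ k → ∃ (W : C) (m : W ⟶ L.X k) (w : m ≫ L.d k (k + 1) = 0),
      Mono m ∧ P W ∧ (ShortComplex.mk m (L.d k (k + 1)) w).Exact := by
    intro k hk
    induction k, hk using Int.leInduction with
    | base => exact ⟨W, m, w, inferInstance, hW, hm⟩
    | succ k hk ih =>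
      obtain ⟨W₀, m₀, w₀, hm₀, hW₀, hex₀⟩ := ih
      obtain ⟨W', p, m', w'', h1, -, h2, h3, -⟩ := classExact_step F P hP m₀ (L.d k (k + 1))
        (L.d (k + 1) (k + 1 + 1)) w₀ (L.d_comp_d _ _ _) hex₀
        (by have := hex' (k + 1) (by lia); rwa [add_sub_cancel_right] at this) hW₀ (hL k hk)
      exact ⟨W', m', w'', h1, h2, h3⟩
  have aux : ∀ (k : ℤ), n ≤ k → ∀ {W : C} (m : W ⟶ L.X k) (w : m ≫ L.d k (k + 1) = 0), Mono m →
      P W → (ShortComplex.mk m (L.d k (k + 1)) w).Exact →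
      Mono (F.map m) ∧
      (∃ wF : F.map m ≫ F.map (L.d k (k + 1)) = 0,
        (ShortComplex.mk (F.map m) (F.map (L.d k (k + 1))) wF).Exact) ∧
      ((F.mapHomologicalComplex (ComplexShape.up ℤ)).obj L).ExactAt (k + 1) := by
    intro k hk W₀ m₀ w₀ hm₀ hW₀ hex₀
    obtain ⟨W', p, m', w'', h1, hpm, h2, h3, hFm, hFp, wp, hFex⟩ := classExact_step F P hP m₀
      (L.d k (k + 1)) (L.d (k + 1) (k + 1 + 1)) w₀ (L.d_comp_d _ _ _) hex₀
      (by have := hex' (k + 1) (by lia); rwa [add_sub_cancel_right] at this) hW₀ (hL k hk)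
    obtain ⟨W'', p', m'', w''', h1', hpm', h2', h3', hFm', hFp', wp', hFex'⟩ := classExact_step F P hP
      m' (L.d (k + 1) (k + 1 + 1)) (L.d (k + 1 + 1) (k + 1 + 1 + 1)) w'' (L.d_comp_d _ _ _) h3
      (by have := hex' (k + 1 + 1) (by lia); rwa [add_sub_cancel_right] at this) h2
      (hL (k + 1) (by lia))
    obtain ⟨-, -, -, -, -, -, -, -, hFm'', -⟩ := classExact_step F P hP
      m'' (L.d (k + 1 + 1) (k + 1 + 1 + 1)) (L.d (k + 1 + 1 + 1) (k + 1 + 1 + 1 + 1)) w'''
      (L.d_comp_d _ _ _) h3'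
      (by have := hex' (k + 1 + 1 + 1) (by lia); rwa [add_sub_cancel_right] at this) h2'
      (hL (k + 1 + 1) (by lia))
    have wF : F.map m₀ ≫ F.map (L.d k (k + 1)) = 0 := by rw [← F.map_comp, w₀, F.map_zero]
    refine ⟨hFm, ⟨wF, ?_⟩, ?_⟩
    · let φ : ShortComplex.mk (F.map m₀) (F.map p) wp ⟶
          ShortComplex.mk (F.map m₀) (F.map (L.d k (k + 1))) wF :=
        { τ₁ := 𝟙 _
          τ₂ := 𝟙 _
          τ₃ := F.map m'
          comm₁₂ := (Category.id_comp _).trans (Category.comp_id _).symm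
          comm₂₃ := (Category.id_comp _).trans (by rw [← F.map_comp, hpm]) }
      have : Epi φ.τ₁ := (inferInstance : Epi (𝟙 (F.obj W₀)))
      have : IsIso φ.τ₂ := (inferInstance : IsIso (𝟙 (F.obj (L.X k))))
      have : Mono φ.τ₃ := hFm'
      exact (ShortComplex.exact_iff_of_epi_of_isIso_of_mono φ).1 hFex
    · rw [HomologicalComplex.exactAt_iff' _ k (k + 1) (k + 1 + 1) (by simp) (by simp)]
      have wmid : F.map m' ≫ F.map (L.d (k + 1) (k + 1 + 1)) = 0 := by
        rw [← F.map_comp, w'', F.map_zero]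
      let φ₁ : ShortComplex.mk (F.map m') (F.map p') wp' ⟶
          ShortComplex.mk (F.map m') (F.map (L.d (k + 1) (k + 1 + 1))) wmid :=
        { τ₁ := 𝟙 _
          τ₂ := 𝟙 _
          τ₃ := F.map m''
          comm₁₂ := (Category.id_comp _).trans (Category.comp_id _).symm
          comm₂₃ := (Category.id_comp _).trans (by rw [← F.map_comp, hpm']) }
      let φ₂ : ((F.mapHomologicalComplex (ComplexShape.up ℤ)).obj L).sc' k (k + 1) (k + 1 + 1) ⟶
          ShortComplex.mk (F.map m') (F.map (L.d (k + 1) (k + 1 + 1))) wmid :=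
        { τ₁ := F.map p
          τ₂ := 𝟙 _
          τ₃ := 𝟙 _
          comm₁₂ := (by rw [← F.map_comp, hpm] : F.map p ≫ F.map m' = F.map (L.d k (k + 1))).trans
            (Category.comp_id _).symm
          comm₂₃ := (Category.id_comp _).trans (Category.comp_id _).symm }
      have : Epi φ₁.τ₁ := (inferInstance : Epi (𝟙 (F.obj W')))
      have : IsIso φ₁.τ₂ := (inferInstance : IsIso (𝟙 (F.obj (L.X (k + 1)))))
      have : Mono φ₁.τ₃ := hFm''
      have : Epi φ₂.τ₁ := hFp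
      have : IsIso φ₂.τ₂ := (inferInstance : IsIso (𝟙 (F.obj (L.X (k + 1)))))
      have : Mono φ₂.τ₃ := (inferInstance : Mono (𝟙 (F.obj (L.X (k + 1 + 1)))))
      exact (ShortComplex.exact_iff_of_epi_of_isIso_of_mono φ₂).2
        ((ShortComplex.exact_iff_of_epi_of_isIso_of_mono φ₁).1 hFex')
  obtain ⟨h1, h2, -⟩ := aux n le_rfl m w ‹_› hW hm
  refine ⟨h1, h2, fun k hk => ?_⟩
  obtain ⟨j, rfl⟩ : ∃ j, j + 1 = k := ⟨k - 1, sub_add_cancel _ _⟩
  obtain ⟨W₀, m₀, w₀, hm₀, hW₀, hex₀⟩ := step j (by lia)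
  exact (aux j (by lia) m₀ w₀ hm₀ hW₀ hex₀).2.2

end Groth.Agent.RFPlus
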