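import Groth.Agent.Lib.RFPlus.Acyclic
import Groth.Agent.Lib.RFPlus.ClassExact
import Mathlib.Algebra.Homology.HomotopyCategory.Acyclic
import Mathlib.Algebra.Homology.HomotopyCategory.MappingCone

/-!
Bounded below complexes of acyclic objects compute `RF`; adapted classes.
-/

set_option autoImplicit false

universe w w' v u v' u'

open CategoryTheory CategoryTheory.Limits CategoryTheory.Pretriangulated ZeroObject

namespace Groth.Agent.RFPlus

theorem quasiIso_iff_acyclic_cone {C : Type u} [Category.{v} C] [Abelian C]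
    {K L : CochainComplex C ℤ} (φ : K ⟶ L) :
    QuasiIso φ ↔ (CochainComplex.mappingCone φ).Acyclic := by
  have h := (HomotopyCategory.subcategoryAcyclic C).trW_iff_of_distinguished _
    (HomotopyCategory.mappingCone_triangleh_distinguished φ)
  rw [← HomotopyCategory.quasiIso_eq_trW_subcategoryAcyclic] at h
  rw [← HomotopyCategory.quotient_obj_mem_subcategoryAcyclic_iff_acyclic,
    ← HomologicalComplex.mem_quasiIso_iff φ, ← HomotopyCategory.quotient_map_mem_quasiIso_iff]
  exact h

variable {C : Type u} [Category.{v} C] [Abelian C] {D : Type u'} [Category.{v'} D] [Abelian D]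
  (F : C ⥤ D) [F.Additive]

/-- A bounded below acyclic complex with terms in a class on which `F` is exact has acyclic image. -/
theorem acyclic_map_of_class (P : C → Prop)
    (hP : ∀ S : ShortComplex C, S.ShortExact → P S.X₁ → P S.X₂ → P S.X₃ ∧ (S.map F).ShortExact)
    (hP0 : ∀ Z : C, IsZero Z → P Z) (L : CochainComplex C ℤ) (a : ℤ) [L.IsStrictlyGE a]
    (hL : ∀ k, P (L.X k)) (hac : L.Acyclic) :
    ((F.mapHomologicalComplex (ComplexShape.up ℤ)).obj L).Acyclic := by
  intro k
  obtain ⟨n, hn⟩ : ∃ n, min k a - 3 = n := ⟨_, rfl⟩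
  have hz : IsZero (L.X n) := L.isZero_of_isStrictlyGE a n (by omega)
  have : Mono (0 : (0 : C) ⟶ L.X n) := ⟨fun _ _ _ => (isZero_zero C).eq_of_tgt _ _⟩
  exact (classExact_map F P hP L n (0 : (0 : C) ⟶ L.X n) zero_comp
    (ShortComplex.exact_of_isZero_X₂ _ hz) (hP0 _ (isZero_zero C)) (fun i _ => hL i)
    (fun i _ => hac i)).2.2 k (by omega)

variable [EnoughInjectives C]

/-- An `F`-acyclic object (classical sense). -/
def IsAcyclicObj (X : C) : Prop := ∀ i : ℕ, 0 < i → IsZero ((F.rightDerived i).obj X)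

theorem isAcyclicObj_injective (X : C) [Injective X] : IsAcyclicObj F X := by
  intro i hi
  obtain ⟨n, rfl⟩ : ∃ n, n + 1 = i := ⟨i - 1, by omega⟩
  exact F.isZero_rightDerived_obj_injective_succ n X

theorem isAcyclicObj_biprod (X Y : C) (hX : IsAcyclicObj F X) (hY : IsAcyclicObj F Y) :
    IsAcyclicObj F (X ⊞ Y) := by
  letI := HasDerivedCategory.standard C
  letI := HasDerivedCategory.standard D
  intro i hi
  exact isZero_rightDerived_X₂ F _ (ShortComplex.Splitting.ofHasBinaryBiproduct X Y).shortExact i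
    (hX i hi) (hY i hi)

theorem isAcyclicObj_cokernel [PreservesFiniteLimits F] (S : ShortComplex C) (hS : S.ShortExact)
    (h₁ : IsAcyclicObj F S.X₁) (h₂ : IsAcyclicObj F S.X₂) :
    IsAcyclicObj F S.X₃ ∧ (S.map F).ShortExact := by
  letI := HasDerivedCategory.standard C
  letI := HasDerivedCategory.standard D
  exact ⟨fun i hi => isZero_rightDerived_X₃ F S hS i (h₂ i hi) (h₁ (i + 1) (by omega)),
    shortExact_map_of_isZero F S hS (h₁ 1 Nat.one_pos)⟩

theorem quasiIso_map_of_acyclic_terms [PreservesFiniteLimits F] {K L : CochainComplex C ℤ}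
    (j : K ⟶ L) [QuasiIso j] (a : ℤ) [K.IsStrictlyGE (a + 1)] [L.IsStrictlyGE a]
    (hK : ∀ m, IsAcyclicObj F (K.X m)) (hL : ∀ m, IsAcyclicObj F (L.X m)) :
    QuasiIso ((F.mapHomologicalComplex (ComplexShape.up ℤ)).map j) := by
  rw [quasiIso_iff_acyclic_cone]
  have hM : (CochainComplex.mappingCone j).Acyclic := (quasiIso_iff_acyclic_cone j).1 inferInstance
  have hge : (CochainComplex.mappingCone j).IsStrictlyGE a := by
    rw [CochainComplex.isStrictlyGE_iff]
    intro i hi
    rw [CochainComplex.mappingCone.isZero_X_iff]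
    exact ⟨K.isZero_of_isStrictlyGE (a + 1) _ (by omega), L.isZero_of_isStrictlyGE a _ hi⟩
  have hX : ∀ m, IsAcyclicObj F ((CochainComplex.mappingCone j).X m) := fun m => by
    intro i hi
    have e : (CochainComplex.mappingCone j).X m ≅ K.X (m + 1) ⊞ L.X m :=
      HomologicalComplex.homotopyCofiber.XIsoBiprod j m (m + 1) rfl
    exact ((isAcyclicObj_biprod F _ _ (hK (m + 1)) (hL m)) i hi).of_iso
      ((F.rightDerived i).mapIso e)
  have h := acyclic_map_of_class F (IsAcyclicObj F) (fun S hS => isAcyclicObj_cokernel F S hS)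
    (fun Z hZ => fun i hi => by
      have : Injective Z := hZ.injective
      exact isAcyclicObj_injective F Z i hi)
    _ a hX hM
  intro i
  exact (h i).of_iso (CochainComplex.mappingCone.mapHomologicalComplexIso j F)

end Groth.Agent.RFPlus
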