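import Mathlib.Algebra.Homology.Embedding.Extend
import Mathlib.Algebra.Homology.Embedding.ExtendHomology
import Mathlib.Algebra.Homology.Additive
import Mathlib.CategoryTheory.Abelian.Injective.Extend
import Mathlib.CategoryTheory.Abelian.RightDerived

/-!
Extension of complexes commutes with functors preserving zero morphisms; right derived functors
computed with resolutions indexed by `ℤ`.
-/

set_option autoImplicit false

universe v u v' u'

open CategoryTheory CategoryTheory.Limits

namespace Groth.Agent.RFPlus

variable {C : Type u} [Category.{v} C] [Abelian C] {D : Type u'} [Category.{v'} D] [Abelian D]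
  (F : C ⥤ D) [F.Additive]

section

variable {ι ι' : Type*} {c : ComplexShape ι} {c' : ComplexShape ι'} (e : c.Embedding c')

/-- Componentwise comparison. -/
noncomputable def mapExtendX (K : HomologicalComplex C c) :
    ∀ o : Option ι, F.obj (HomologicalComplex.extend.X K o) ≅
      HomologicalComplex.extend.X ((F.mapHomologicalComplex c).obj K) o
  | some _ => Iso.refl _
  | none => (F.map_isZero (HomologicalComplex.extend.isZero_X K rfl)).iso
      (HomologicalComplex.extend.isZero_X _ rfl)

theorem mapExtendX_comm (K : HomologicalComplex C c) (o o' : Option ι) :
    (mapExtendX F K o).hom ≫ HomologicalComplex.extend.d ((F.mapHomologicalComplex c).obj K) o o' =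
      F.map (HomologicalComplex.extend.d K o o') ≫ (mapExtendX F K o').hom := by
  cases o with
  | none => exact (F.map_isZero (HomologicalComplex.extend.isZero_X K rfl)).eq_of_src _ _
  | some i =>
    cases o' with
    | none => exact (HomologicalComplex.extend.isZero_X _ rfl).eq_of_tgt _ _
    | some j => exact (Category.id_comp _).trans (Category.comp_id _).symm

/-- `F` commutes with extension by zero. -/
noncomputable def mapExtendIso (K : HomologicalComplex C c) :
    (F.mapHomologicalComplex c').obj (K.extend e) ≅ ((F.mapHomologicalComplex c).obj K).extend e :=
  HomologicalComplex.Hom.isoOfComponents (fun i' => mapExtendX F K (e.r i'))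
    (fun i' j' _ => mapExtendX_comm F K (e.r i') (e.r j'))

end

variable [EnoughInjectives C] {X : C} (R : InjectiveResolution X)

/-- The right derived functors via resolutions indexed by `ℤ`. -/
noncomputable def homologyMapResolutionIso (n : ℕ) :
    ((F.mapHomologicalComplex (ComplexShape.up ℤ)).obj R.cochainComplex).homology (n : ℤ) ≅
      (F.rightDerived n).obj X :=
  HomologicalComplex.homologyMapIso (mapExtendIso F ComplexShape.embeddingUpNat R.cocomplex) _ ≪≫
    HomologicalComplex.extendHomologyIso _ ComplexShape.embeddingUpNat (j := n) (by simp) ≪≫
    (R.isoRightDerivedObj F n).symm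

end Groth.Agent.RFPlus
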