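import Groth.Agent.Lib.RFPlus.Basic
import Groth.Agent.Lib.RFPlus.MapExtend

/-!
Right derived functors in the classical sense versus `RF`; acyclic objects; long exact sequence
criteria for `Functor.rightDerived`.
-/

set_option autoImplicit false

universe w w' v u v' u'

open CategoryTheory CategoryTheory.Limits

namespace Groth.Agent.RFPlus

variable {C : Type u} [Category.{v} C] [Abelian C] {D : Type u'} [Category.{v'} D] [Abelian D]
  (F : C ⥤ D) [F.Additive]

/-- An object as a bounded below complex. -/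
noncomputable def sing (X : C) : CochainComplex.Plus C :=
  ⟨(CochainComplex.singleFunctor C 0).obj X, 0, inferInstance⟩

/-- Functoriality of `sing`. -/
noncomputable def singMap {X Y : C} (f : X ⟶ Y) : sing X ⟶ sing Y :=
  ObjectProperty.homMk ((CochainComplex.singleFunctor C 0).map f)

/-- An injective resolution as a bounded below complex. -/
noncomputable def resPlus {X : C} (R : InjectiveResolution X) : CochainComplex.Plus C :=
  ⟨R.cochainComplex, 0, inferInstance⟩

/-- The augmentation. -/
noncomputable def resAug {X : C} (R : InjectiveResolution X) : sing X ⟶ resPlus R :=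
  ObjectProperty.homMk R.ι'

instance quasiIso_resAug {X : C} (R : InjectiveResolution X) : QuasiIso (resAug R).hom :=
  inferInstanceAs (QuasiIso R.ι')

instance injective_resPlus {X : C} (R : InjectiveResolution X) (n : ℤ) :
    Injective ((resPlus R).obj.X n) :=
  inferInstanceAs (Injective (R.cochainComplex.X n))

theorem mapX_comm {ι : Type*} {c : ComplexShape ι} {K L : HomologicalComplex C c} (φ : K ⟶ L)
    (o : Option ι) :
    F.map (HomologicalComplex.extend.mapX φ o) ≫ (mapExtendX F L o).hom =
      (mapExtendX F K o).hom ≫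
        HomologicalComplex.extend.mapX ((F.mapHomologicalComplex c).map φ) o := by
  cases o with
  | none => exact (F.map_isZero (HomologicalComplex.extend.isZero_X K rfl)).eq_of_src _ _
  | some i => exact (Category.comp_id _).trans (Category.id_comp _).symm

theorem mapExtendIso_naturality {ι ι' : Type*} {c : ComplexShape ι} {c' : ComplexShape ι'}
    (e : c.Embedding c') {K L : HomologicalComplex C c} (φ : K ⟶ L) :
    (F.mapHomologicalComplex c').map (HomologicalComplex.extendMap φ e) ≫ (mapExtendIso F e L).hom =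
      (mapExtendIso F e K).hom ≫
        HomologicalComplex.extendMap ((F.mapHomologicalComplex c).map φ) e :=
  HomologicalComplex.hom_ext _ _ fun i' => mapX_comm F φ (e.r i')

theorem quasiIso_map_extendMap_iff {ι ι' : Type*} {c : ComplexShape ι} {c' : ComplexShape ι'}
    (e : c.Embedding c') [e.IsRelIff] {K L : HomologicalComplex C c} (φ : K ⟶ L) :
    QuasiIso ((F.mapHomologicalComplex c').map (HomologicalComplex.extendMap φ e)) ↔
      QuasiIso ((F.mapHomologicalComplex c).map φ) := by
  rw [← quasiIso_iff_comp_right _ (mapExtendIso F e L).hom, mapExtendIso_naturality,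
    quasiIso_iff_comp_left, HomologicalComplex.quasiIso_extendMap_iff]

omit [Abelian C] in
theorem quasiIso_comp_isIso {ι : Type*} {c : ComplexShape ι} {K L M : HomologicalComplex D c}
    (g : K ⟶ L) (h : L ⟶ M) (hg : IsIso g) :
    (QuasiIso (g ≫ h) ↔ QuasiIso h) ∧ ∀ i, QuasiIsoAt (g ≫ h) i ↔ QuasiIsoAt h i :=
  ⟨quasiIso_iff_comp_left g h, fun i => quasiIsoAt_iff_comp_left g h i⟩

variable [EnoughInjectives C]

/-- The resolution in degree zero. -/
theorem quasiIsoAt_map_ι_zero_iff {X : C} (R : InjectiveResolution X) :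
    QuasiIsoAt ((F.mapHomologicalComplex (ComplexShape.up ℕ)).map R.ι) 0 ↔
      IsIso (F.toRightDerivedZero.app X) := by
  rw [quasiIsoAt_iff_isIso_homologyMap, R.toRightDerivedZero_eq F, isIso_comp_right_iff]
  have hnat : HomologicalComplex.cyclesMap ((F.mapHomologicalComplex (ComplexShape.up ℕ)).map R.ι) 0 ≫
      (CochainComplex.isoHomologyπ₀ _).hom =
      (CochainComplex.isoHomologyπ₀ _).hom ≫ HomologicalComplex.homologyMap ((F.mapHomologicalComplex (ComplexShape.up ℕ)).map R.ι) 0 :=
    (HomologicalComplex.homologyπ_naturality ((F.mapHomologicalComplex (ComplexShape.up ℕ)).map R.ι) 0).symm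
  rw [← isIso_comp_left_iff (CochainComplex.isoHomologyπ₀ _).hom
    (HomologicalComplex.homologyMap ((F.mapHomologicalComplex (ComplexShape.up ℕ)).map R.ι) 0), ← hnat, isIso_comp_right_iff]
  let S := (F.mapHomologicalComplex (ComplexShape.up ℕ)).obj ((CochainComplex.single₀ C).obj X)
  have hd : S.d 0 1 = 0 := (F.map_isZero
    (HomologicalComplex.isZero_single_obj_X _ _ _ _ (by lia))).eq_of_tgt _ _
  have hi : IsIso (S.iCycles 0) := S.isIso_iCycles 0 1 (by simp) hd
  let r : S.X 0 ⟶ ((F.mapHomologicalComplex (ComplexShape.up ℕ)).obj R.cocomplex).cycles 0 :=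
    R.toRightDerivedZero' F
  have key : HomologicalComplex.cyclesMap ((F.mapHomologicalComplex (ComplexShape.up ℕ)).map R.ι) 0 =
      S.iCycles 0 ≫ r := by
    rw [← cancel_mono (HomologicalComplex.iCycles _ _), HomologicalComplex.cyclesMap_i, Category.assoc]
    exact congrArg (S.iCycles 0 ≫ ·) (InjectiveResolution.toRightDerivedZero'_comp_iCycles R F).symm
  rw [key]
  exact ⟨fun h => @IsIso.of_isIso_comp_left _ _ _ _ _ _ _ hi h,
    fun h => @IsIso.comp_isIso _ _ _ _ _ _ _ hi h⟩

/-- The resolution indexed by `ℤ` in degree zero. -/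
theorem quasiIsoAt_map_ι'_zero_iff {X : C} (R : InjectiveResolution X) :
    QuasiIsoAt ((F.mapHomologicalComplex (ComplexShape.up ℤ)).map R.ι') 0 ↔
      IsIso (F.toRightDerivedZero.app X) := by
  rw [← quasiIsoAt_map_ι_zero_iff F R,
    ← HomologicalComplex.quasiIsoAt_extendMap_iff ((F.mapHomologicalComplex (ComplexShape.up ℕ)).map R.ι)
      ComplexShape.embeddingUpNat (j := 0) (j' := 0) (by simp),
    ← quasiIsoAt_iff_comp_left (mapExtendIso F ComplexShape.embeddingUpNat _).hom _ 0,
    ← mapExtendIso_naturality, quasiIsoAt_iff_comp_right]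
  have hiso : IsIso ((F.mapHomologicalComplex (ComplexShape.up ℤ)).map
      (HomologicalComplex.extendSingleIso ComplexShape.embeddingUpNat X 0 0 (by simp)).inv) :=
    Functor.map_isIso _ _
  refine Iff.trans (iff_of_eq (congrArg (fun g => QuasiIsoAt g 0)
    ((F.mapHomologicalComplex (ComplexShape.up ℤ)).map_comp
      (HomologicalComplex.extendSingleIso ComplexShape.embeddingUpNat X 0 0 (by simp)).inv
      (HomologicalComplex.extendMap R.ι ComplexShape.embeddingUpNat)))) ?_
  exact (quasiIso_comp_isIso _ _ hiso).2 0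

/-- `F` preserves the resolution `R` iff `X` is `F`-acyclic. -/
theorem quasiIso_map_resolution_iff {X : C} (R : InjectiveResolution X) :
    QuasiIso ((F.mapHomologicalComplex (ComplexShape.up ℤ)).map R.ι') ↔
      (IsIso (F.toRightDerivedZero.app X) ∧ ∀ i : ℕ, 0 < i → IsZero ((F.rightDerived i).obj X)) := by
  have hiso : IsIso ((F.mapHomologicalComplex (ComplexShape.up ℤ)).map
      (HomologicalComplex.extendSingleIso ComplexShape.embeddingUpNat X 0 0 (by simp)).inv) :=
    Functor.map_isIso _ _
  refine Iff.trans (iff_of_eq (congrArg (fun g => QuasiIso g)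
    ((F.mapHomologicalComplex (ComplexShape.up ℤ)).map_comp
      (HomologicalComplex.extendSingleIso ComplexShape.embeddingUpNat X 0 0 (by simp)).inv
      (HomologicalComplex.extendMap R.ι ComplexShape.embeddingUpNat)))) ?_
  refine (quasiIso_comp_isIso _ _ hiso).1.trans ((quasiIso_map_extendMap_iff F _ _).trans ?_)
  let φ := (F.mapHomologicalComplex (ComplexShape.up ℕ)).map R.ι
  have hsrc : ∀ i : ℕ, 0 < i → IsZero (((F.mapHomologicalComplex (ComplexShape.up ℕ)).obj
      ((CochainComplex.single₀ C).obj X)).homology i) := fun i hi =>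
    HomologicalComplex.ExactAt.isZero_homology ((HomologicalComplex.exactAt_iff _ i).2
      (ShortComplex.exact_of_isZero_X₂ _ (F.map_isZero
        (HomologicalComplex.isZero_single_obj_X (ComplexShape.up ℕ) 0 X i (by lia)))))
  have hpos : ∀ i : ℕ, 0 < i → (QuasiIsoAt φ i ↔ IsZero ((F.rightDerived i).obj X)) := by
    intro i hi
    rw [quasiIsoAt_iff_isIso_homologyMap, (R.isoRightDerivedObj F i).isZero_iff]
    exact ⟨fun _ => (hsrc i hi).of_iso (asIso (HomologicalComplex.homologyMap φ i)).symm,
      fun h => ⟨0, (hsrc i hi).eq_of_src _ _, h.eq_of_src _ _⟩⟩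
  have h0 := quasiIsoAt_map_ι_zero_iff F R
  rw [quasiIso_iff]
  constructor
  · exact fun h => ⟨h0.1 (h 0), fun i hi => (hpos i hi).1 (h i)⟩
  · rintro ⟨h₁, h₂⟩ i
    rcases Nat.eq_zero_or_pos i with rfl | hi
    · exact h0.2 h₁
    · exact (hpos i hi).2 (h₂ i hi)

variable [HasDerivedCategory.{w} C] [HasDerivedCategory.{w'} D]

/-- The unit at an object is invertible iff the object is acyclic. -/
theorem isIso_unit_sing_iff (X : C) :
    IsIso (F.rightDerivedFunctorPlusUnit.app ((HomotopyCategory.Plus.quotient C).obj (sing X))) ↔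
      (IsIso (F.toRightDerivedZero.app X) ∧ ∀ i : ℕ, 0 < i → IsZero ((F.rightDerived i).obj X)) := by
  rw [isIso_unit_iff F (resAug (injectiveResolution X))]
  exact quasiIso_map_resolution_iff F _

/-- Classical derived functors are the cohomology of `RF`. -/
noncomputable def rightDerivedIso (X : C) (n : ℕ) :
    (HR F n).obj (sing X) ≅ (F.rightDerived n).obj X :=
  have := isIso_HR_map F n (resAug (injectiveResolution X))
  asIso ((HR F n).map (resAug (injectiveResolution X))) ≪≫
    (asIso ((θ F n).app (resPlus (injectiveResolution X)))).symm ≪≫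
    homologyMapResolutionIso F (injectiveResolution X) n

/-- The comparison `F ⟶ H⁰RF`. -/
noncomputable def η (X : C) : F.obj X ⟶ (HR F 0).obj (sing X) :=
  (HomologicalComplex.singleObjHomologySelfIso (ComplexShape.up ℤ) 0 (F.obj X)).inv ≫
    HomologicalComplex.homologyMap
      ((HomologicalComplex.singleMapHomologicalComplex F (ComplexShape.up ℤ) 0).inv.app X) 0 ≫
    (θ F 0).app (sing X)

theorem η_naturality {X Y : C} (f : X ⟶ Y) :
    F.map f ≫ η F Y = η F X ≫ (HR F 0).map (singMap f) := by
  have h1 := (θ F 0).naturality (singMap f)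
  have h2 := (HomologicalComplex.singleMapHomologicalComplex F (ComplexShape.up ℤ) 0).inv.naturality f
  have h3 := HomologicalComplex.singleObjHomologySelfIso_inv_naturality (ComplexShape.up ℤ) 0
    (F.map f)
  simp only [η, Category.assoc]
  rw [← reassoc_of% h3]
  congr 1
  rw [← HomologicalComplex.homologyMap_comp_assoc]
  erw [h2]
  rw [HomologicalComplex.homologyMap_comp, Category.assoc]
  congr 1

theorem isIso_η [PreservesFiniteLimits F] (X : C) : IsIso (η F X) := by
  have : IsIso ((θ F 0).app (sing X)) := by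
    have hj : QuasiIsoAt ((F.mapHomologicalComplex (ComplexShape.up ℤ)).map
        (resAug (injectiveResolution X)).hom) 0 :=
      (quasiIsoAt_map_ι'_zero_iff F (injectiveResolution X)).2 inferInstance
    rw [quasiIsoAt_iff_isIso_homologyMap] at hj
    have hm := isIso_HR_map F 0 (resAug (injectiveResolution X))
    have hI := isIso_θ_app F 0 (resPlus (injectiveResolution X))
    have h' : IsIso ((CochainComplex.Plus.ι C ⋙ F.mapHomologicalComplex (ComplexShape.up ℤ) ⋙
        HomologicalComplex.homologyFunctor D (ComplexShape.up ℤ) 0).map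
          (resAug (injectiveResolution X)) ≫ (θ F 0).app (resPlus (injectiveResolution X))) :=
      @IsIso.comp_isIso _ _ _ _ _ _ _ hj hI
    rw [(θ F 0).naturality] at h'
    exact @IsIso.of_isIso_comp_right _ _ _ _ _ _ _ hm h' 
  refine @IsIso.comp_isIso _ _ _ _ _ _ _ inferInstance (@IsIso.comp_isIso _ _ _ _ _ _ _ ?_ this)
  exact inferInstanceAs (IsIso ((HomologicalComplex.homologyFunctor D (ComplexShape.up ℤ) 0).map
    ((HomologicalComplex.singleMapHomologicalComplex F (ComplexShape.up ℤ) 0).inv.app X)))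

variable (S : ShortComplex C) (hS : S.ShortExact)

include hS

/-- The long exact sequence of classical derived functors, in terms of `RF`. -/
theorem exists_long_exact_sing (i : ℤ) :
    ∃ (w₂ : (HR F i).map (singMap S.f) ≫ (HR F i).map (singMap S.g) = 0)
      (δ : (HR F i).obj (sing S.X₃) ⟶ (HR F (i + 1)).obj (sing S.X₁))
      (w₃ : (HR F i).map (singMap S.g) ≫ δ = 0)
      (w₁ : δ ≫ (HR F (i + 1)).map (singMap S.f) = 0),
      (ShortComplex.mk _ _ w₂).Exact ∧ (ShortComplex.mk _ _ w₃).Exact ∧
        (ShortComplex.mk _ _ w₁).Exact :=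
  exists_long_exact F (singMap S.f) (singMap S.g)
    (S.map (CochainComplex.singleFunctor C 0)).zero
    (hS.map_of_exact (HomologicalComplex.single C (ComplexShape.up ℤ) 0)) i

theorem isZero_rightDerived_X₂ (n : ℕ) (h₁ : IsZero ((F.rightDerived n).obj S.X₁))
    (h₃ : IsZero ((F.rightDerived n).obj S.X₃)) : IsZero ((F.rightDerived n).obj S.X₂) := by
  obtain ⟨w₂, δ, w₃, w₁, e₂, e₃, e₁⟩ := exists_long_exact_sing F S hS n
  refine IsZero.of_iso ?_ (rightDerivedIso F S.X₂ n).symm
  exact e₂.isZero_of_both_zeros ((h₁.of_iso (rightDerivedIso F S.X₁ n)).eq_of_src _ _)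
    ((h₃.of_iso (rightDerivedIso F S.X₃ n)).eq_of_tgt _ _)

theorem isZero_rightDerived_X₃ (n : ℕ) (h₂ : IsZero ((F.rightDerived n).obj S.X₂))
    (h₁ : IsZero ((F.rightDerived (n + 1)).obj S.X₁)) : IsZero ((F.rightDerived n).obj S.X₃) := by
  obtain ⟨w₂, δ, w₃, w₁, e₂, e₃, e₁⟩ := exists_long_exact_sing F S hS n
  refine IsZero.of_iso ?_ (rightDerivedIso F S.X₃ n).symm
  exact e₃.isZero_of_both_zeros ((h₂.of_iso (rightDerivedIso F S.X₂ n)).eq_of_src _ _)
    ((h₁.of_iso (rightDerivedIso F S.X₁ (n + 1))).eq_of_tgt _ _)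

theorem isZero_rightDerived_X₁ (n : ℕ) (h₂ : IsZero ((F.rightDerived (n + 1)).obj S.X₂))
    (h₃ : IsZero ((F.rightDerived n).obj S.X₃) ∨ Epi ((HR F n).map (singMap S.g))) :
    IsZero ((F.rightDerived (n + 1)).obj S.X₁) := by
  obtain ⟨w₂, δ, w₃, w₁, e₂, e₃, e₁⟩ := exists_long_exact_sing F S hS n
  refine IsZero.of_iso ?_ (rightDerivedIso F S.X₁ (n + 1)).symm
  refine e₁.isZero_of_both_zeros ?_ ((h₂.of_iso (rightDerivedIso F S.X₂ (n + 1))).eq_of_tgt _ _)
  rcases h₃ with h₃ | h₃
  · exact (h₃.of_iso (rightDerivedIso F S.X₃ n)).eq_of_src _ _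
  · exact (cancel_epi ((HR F n).map (singMap S.g))).1 (w₃.trans comp_zero.symm)

theorem shortExact_map_of_isZero [PreservesFiniteLimits F]
    (h₁ : IsZero ((F.rightDerived 1).obj S.X₁)) : (S.map F).ShortExact := by
  have h := F.preservesFiniteLimits_iff_forall_exact_map_and_mono.1 ‹_› S hS
  obtain ⟨w₂, δ, w₃, w₁, e₂, e₃, e₁⟩ := exists_long_exact_sing F S hS 0
  have hg : Epi ((HR F 0).map (singMap S.g)) :=
    e₃.epi_f ((h₁.of_iso (rightDerivedIso F S.X₁ 1)).eq_of_tgt _ _)
  have := isIso_η F S.X₂
  have := isIso_η F S.X₃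
  have h2 : Epi (F.map S.g ≫ η F S.X₃) := by rw [η_naturality]; infer_instance
  have hm : Mono (S.map F).f := h.2
  have he : Epi (S.map F).g := by
    have h3 : Epi ((F.map S.g ≫ η F S.X₃) ≫ inv (η F S.X₃)) := inferInstance
    rw [Category.assoc, IsIso.hom_inv_id, Category.comp_id] at h3
    exact h3
  exact { exact := h.1 }

end Groth.Agent.RFPlus
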