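import Groth.Agent.Lib.RFPlus.Basic
import Mathlib.CategoryTheory.Triangulated.Adjunction
import Mathlib.Algebra.Homology.DerivedCategory.RightDerivedFunctorPlus

/-!
`rightDerivedFunctorPlus` is triangulated.
-/

set_option autoImplicit false

universe w w' v v' u u'

open CategoryTheory CategoryTheory.Limits

namespace Groth.Agent.RFPlus

variable {C : Type u} [Category.{v} C] [Abelian C] [HasDerivedCategory.{w} C] [EnoughInjectives C]
  {D : Type u'} [Category.{v'} D] [Abelian D] [HasDerivedCategory.{w'} D]
  (F : C ⥤ D) [F.Additive]

variable (C) in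
/-- The comparison functor from complexes of injectives up to homotopy to `D⁺`. -/
noncomputable def injToDerived :
    HomotopyCategory.Plus (InjectiveObject C) ⥤ DerivedCategory.Plus C :=
  (InjectiveObject.ι C).mapHomotopyCategoryPlus ⋙ DerivedCategory.Plus.Qh

noncomputable instance : (injToDerived C).CommShift ℤ := by
  dsimp only [injToDerived]; infer_instance

instance : (injToDerived C).IsTriangulated := by
  dsimp only [injToDerived]; infer_instance

omit [EnoughInjectives C] in
omit [HasDerivedCategory.{w} C] in
theorem isKInjective_obj (Y : HomotopyCategory.Plus (InjectiveObject C)) :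
    CochainComplex.IsKInjective ((InjectiveObject.ι C).mapHomotopyCategoryPlus.obj Y).obj.as := by
  obtain ⟨K, rfl⟩ := HomotopyCategory.Plus.quotient_obj_surjective Y
  exact inferInstanceAs (CochainComplex.IsKInjective
    (((InjectiveObject.ι C).mapHomologicalComplex (.up ℤ)).obj K.obj))

instance : (injToDerived C).Faithful where
  map_injective {X Y} f g h := by
    have := isKInjective_obj Y
    apply (InjectiveObject.ι C).mapHomotopyCategoryPlus.map_injective
    ext
    exact (CochainComplex.IsKInjective.Qh_map_bijective
      ((InjectiveObject.ι C).mapHomotopyCategoryPlus.obj X).obj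
      ((InjectiveObject.ι C).mapHomotopyCategoryPlus.obj Y).obj.as).1
      (DerivedCategory.Plus.ι.congr_map h)

instance : (injToDerived C).Full where
  map_surjective {X Y} g := by
    have := isKInjective_obj Y
    obtain ⟨f, hf⟩ := (CochainComplex.IsKInjective.Qh_map_bijective
      ((InjectiveObject.ι C).mapHomotopyCategoryPlus.obj X).obj
      ((InjectiveObject.ι C).mapHomotopyCategoryPlus.obj Y).obj.as).2 g.hom
    obtain ⟨f', hf'⟩ := (InjectiveObject.ι C).mapHomotopyCategoryPlus.map_surjective
      (ObjectProperty.homMk f)
    refine ⟨f', ?_⟩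
    apply DerivedCategory.Plus.ι.map_injective
    dsimp only [injToDerived, Functor.comp_map]
    rw [hf']
    exact hf

instance : (injToDerived C).EssSurj := by
  dsimp only [injToDerived]; infer_instance

instance : (injToDerived C).IsEquivalence where

variable (C) in
/-- The equivalence `K⁺(Inj C) ≌ D⁺(C)`. -/
noncomputable def injEquiv : HomotopyCategory.Plus (InjectiveObject C) ≌ DerivedCategory.Plus C :=
  (injToDerived C).asEquivalence

noncomputable instance : (injEquiv C).functor.CommShift ℤ :=
  inferInstanceAs ((injToDerived C).CommShift ℤ)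

instance : (injEquiv C).functor.IsTriangulated :=
  inferInstanceAs ((injToDerived C).IsTriangulated)

noncomputable instance : (injEquiv C).inverse.CommShift ℤ := (injEquiv C).commShiftInverse ℤ

instance : (injEquiv C).CommShift ℤ := (injEquiv C).commShift_of_functor ℤ

instance : (injEquiv C).IsTriangulated := Equivalence.IsTriangulated.mk' _ inferInstance

/-- `RF` restricted to complexes of injectives is the naive functor. -/
noncomputable def injToDerivedCompIso :
    (injEquiv C).functor ⋙ F.rightDerivedFunctorPlus ≅
      (InjectiveObject.ι C).mapHomotopyCategoryPlus ⋙ F.mapHomotopyCategoryPlus ⋙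
        DerivedCategory.Plus.Qh :=
  have : IsIso (Functor.whiskerLeft (InjectiveObject.ι C).mapHomotopyCategoryPlus
      F.rightDerivedFunctorPlusUnit) := by
    rw [NatTrans.isIso_iff_isIso_app]
    intro X
    dsimp
    infer_instance
  (asIso (Functor.whiskerLeft (InjectiveObject.ι C).mapHomotopyCategoryPlus
      F.rightDerivedFunctorPlusUnit)).symm

/-- `RF` as a composition of triangulated functors. -/
noncomputable def rightDerivedFunctorPlusIso :
    (injEquiv C).inverse ⋙ (InjectiveObject.ι C).mapHomotopyCategoryPlus ⋙
        F.mapHomotopyCategoryPlus ⋙ DerivedCategory.Plus.Qh ≅ F.rightDerivedFunctorPlus :=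
  Functor.isoWhiskerLeft _ (injToDerivedCompIso F).symm ≪≫ (Functor.associator _ _ _).symm ≪≫
    Functor.isoWhiskerRight (injEquiv C).counitIso _ ≪≫ Functor.leftUnitor _

noncomputable instance commShiftRF : F.rightDerivedFunctorPlus.CommShift ℤ :=
  Functor.CommShift.ofIso (rightDerivedFunctorPlusIso F) ℤ

instance isTriangulatedRF : F.rightDerivedFunctorPlus.IsTriangulated :=
  have : NatTrans.CommShift (rightDerivedFunctorPlusIso F).hom ℤ :=
    Functor.CommShift.ofIso_compatibility (rightDerivedFunctorPlusIso F) ℤ
  Functor.isTriangulated_of_iso (rightDerivedFunctorPlusIso F)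

end Groth.Agent.RFPlus
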