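import Groth.Agent.Lib.RFPlus.Acyclic

/-!
Naturality of the comparison between classical derived functors and `RF`; `R⁰F` is left exact.
-/

set_option autoImplicit false

universe w w' v u v' u'

open CategoryTheory CategoryTheory.Limits

namespace Groth.Agent.RFPlus

variable {C : Type u} [Category.{v} C] [Abelian C] {D : Type u'} [Category.{v'} D] [Abelian D]
  (F : C ⥤ D) [F.Additive] [EnoughInjectives C]

theorem homologyMapResolutionIso_naturality {X Y : C} (f : X ⟶ Y) (R : InjectiveResolution X)
    (R' : InjectiveResolution Y) (φ : R.Hom R' f) (n : ℕ) :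
    HomologicalComplex.homologyMap
        ((F.mapHomologicalComplex (ComplexShape.up ℤ)).map φ.hom') (n : ℤ) ≫
      (homologyMapResolutionIso F R' n).hom =
    (homologyMapResolutionIso F R n).hom ≫ (F.rightDerived n).map f := by
  have h1 := congrArg (fun g => HomologicalComplex.homologyMap g (n : ℤ))
    (mapExtendIso_naturality F ComplexShape.embeddingUpNat φ.hom)
  simp only [HomologicalComplex.homologyMap_comp] at h1
  have h2 := HomologicalComplex.extendHomologyIso_hom_naturality
    ((F.mapHomologicalComplex (ComplexShape.up ℕ)).map φ.hom) ComplexShape.embeddingUpNat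
    (j := n) (j' := (n : ℤ)) (by simp)
  have h3 := InjectiveResolution.isoRightDerivedObj_inv_naturality f R R' φ.hom
    (by simpa using φ.ι_f_zero_comp_hom_f_zero) F n
  simp only [homologyMapResolutionIso, InjectiveResolution.Hom.hom', Iso.trans_hom, Iso.symm_hom,
    HomologicalComplex.homologyMapIso_hom, Category.assoc]
  erw [reassoc_of% h1]
  refine congrArg _ ?_
  erw [reassoc_of% h2]
  exact congrArg _ h3.symm

theorem rightDerived_additive (n : ℕ) : (F.rightDerived n).Additive where
  map_add {X Y f g} := by
    let R := injectiveResolution X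
    let R' := injectiveResolution Y
    rw [← cancel_mono (R'.isoRightDerivedObj F n).hom, Preadditive.add_comp,
      InjectiveResolution.isoRightDerivedObj_hom_naturality f R R' (InjectiveResolution.desc f R' R)
        (InjectiveResolution.desc_commutes_zero f R' R) F n,
      InjectiveResolution.isoRightDerivedObj_hom_naturality g R R' (InjectiveResolution.desc g R' R)
        (InjectiveResolution.desc_commutes_zero g R' R) F n,
      InjectiveResolution.isoRightDerivedObj_hom_naturality (f + g) R R'
        (InjectiveResolution.desc f R' R + InjectiveResolution.desc g R' R)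
        (by rw [HomologicalComplex.add_f_apply, Preadditive.comp_add,
          InjectiveResolution.desc_commutes_zero, InjectiveResolution.desc_commutes_zero,
          Preadditive.add_comp]; rfl) F n, ← Preadditive.comp_add, Functor.map_add]

variable [HasDerivedCategory.{w} C] [HasDerivedCategory.{w'} D]

theorem rightDerivedIso_naturality {X Y : C} (f : X ⟶ Y) (n : ℕ) :
    (HR F n).map (singMap f) ≫ (rightDerivedIso F Y n).hom =
      (rightDerivedIso F X n).hom ≫ (F.rightDerived n).map f := by
  let R := injectiveResolution X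
  let R' := injectiveResolution Y
  let φ : R.Hom R' f :=
    { hom := InjectiveResolution.desc f R' R
      ι_f_zero_comp_hom_f_zero := by simpa using InjectiveResolution.desc_commutes_zero f R' R }
  let ψ : resPlus R ⟶ resPlus R' := ObjectProperty.homMk φ.hom'
  have hsq : resAug R ≫ ψ = singMap f ≫ resAug R' :=
    ObjectProperty.hom_ext _ φ.ι'_comp_hom'
  have h1 : (HR F n).map (singMap f) ≫ (HR F n).map (resAug R') =
      (HR F n).map (resAug R) ≫ (HR F n).map ψ := by
    rw [← Functor.map_comp, ← Functor.map_comp, hsq]
  have h2 := (θ F n).naturality ψ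
  have h3 : (HR F n).map ψ ≫ inv ((θ F n).app (resPlus R')) =
      inv ((θ F n).app (resPlus R)) ≫ HomologicalComplex.homologyMap
        ((F.mapHomologicalComplex (ComplexShape.up ℤ)).map φ.hom') (n : ℤ) := by
    exact (IsIso.eq_inv_comp _).2 ((Category.assoc _ _ _).symm.trans ((IsIso.comp_inv_eq _).2 h2.symm))
  simp only [rightDerivedIso, Iso.trans_hom, Iso.symm_hom, asIso_inv, asIso_hom, Category.assoc]
  rw [reassoc_of% h1]
  refine congrArg _ ?_
  refine ((Category.assoc _ _ _).symm.trans (congrArg (· ≫ _) h3)).trans ?_
  refine (Category.assoc _ _ _).trans ?_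
  exact congrArg _ (homologyMapResolutionIso_naturality F f R R' φ n)

theorem HR_sing_neg (X : C) (i : ℤ) (hi : i < 0) : IsZero ((HR F i).obj (sing X)) := by
  have : DerivedCategory.Plus.IsGE (DerivedCategory.Plus.Qh.obj
      ((HomotopyCategory.Plus.quotient C).obj (sing X))) 0 := by
    rw [← DerivedCategory.Plus.isGE_ι_obj_iff]
    have hS : CochainComplex.IsStrictlyGE (sing X).obj 0 :=
      inferInstanceAs (CochainComplex.IsStrictlyGE ((CochainComplex.singleFunctor C 0).obj X) 0)
    have : DerivedCategory.IsGE (DerivedCategory.Q.obj (sing X).obj) 0 := inferInstance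
    exact DerivedCategory.TStructure.t.isGE_of_iso
      ((DerivedCategory.quotientCompQhIso C).app (sing X).obj).symm 0
  have := isGE_rightDerivedFunctorPlus F (DerivedCategory.Plus.Qh.obj
      ((HomotopyCategory.Plus.quotient C).obj (sing X))) 0
  exact DerivedCategory.isZero_of_isGE (DerivedCategory.Plus.ι.obj (F.rightDerivedFunctorPlus.obj
    (DerivedCategory.Plus.Qh.obj ((HomotopyCategory.Plus.quotient C).obj (sing X))))) 0 i hi

/-- `R⁰F` is left exact. -/
theorem preservesFiniteLimits_rightDerived_zero [(F.rightDerived 0).Additive] :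
    PreservesFiniteLimits (F.rightDerived 0) := by
  rw [Functor.preservesFiniteLimits_iff_forall_exact_map_and_mono]
  intro S hS
  obtain ⟨w₂, δ, w₃, w₁, e₂, e₃, e₁⟩ := exists_long_exact_sing F S hS ((0 : ℕ) : ℤ)
  obtain ⟨w₂', δ', w₃', w₁', e₂', e₃', e₁'⟩ := exists_long_exact_sing F S hS (-1)
  refine ⟨ShortComplex.exact_of_iso (ShortComplex.isoMk (rightDerivedIso F S.X₁ 0)
    (rightDerivedIso F S.X₂ 0) (rightDerivedIso F S.X₃ 0)
    (rightDerivedIso_naturality F S.f 0).symm (rightDerivedIso_naturality F S.g 0).symm) e₂, ?_⟩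
  have hm : Mono ((HR F ((0 : ℕ) : ℤ)).map (singMap S.f)) := by
    have h : Mono ((HR F (-1 + 1)).map (singMap S.f)) :=
      e₁'.mono_g ((HR_sing_neg F S.X₃ (-1) (by lia)).eq_of_src _ _)
    exact h
  have h2 : (F.rightDerived 0).map S.f = (rightDerivedIso F S.X₁ 0).inv ≫
      (HR F ((0 : ℕ) : ℤ)).map (singMap S.f) ≫ (rightDerivedIso F S.X₂ 0).hom := by
    rw [rightDerivedIso_naturality, Iso.inv_hom_id_assoc]
  rw [h2]
  infer_instance

end Groth.Agent.RFPlus
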