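import Groth.Agent.Lib.RFPlus.Horseshoe
import Mathlib.Algebra.Homology.DerivedCategory.RightDerivedFunctorPlus
import Mathlib.CategoryTheory.Abelian.Exact

/-!
The right derived functor on bounded below derived categories, computed by injective complexes;
long exact cohomology sequences.
-/

set_option autoImplicit false

universe w w' v u v' u'

open CategoryTheory CategoryTheory.Limits CategoryTheory.Triangulated

namespace Groth.Agent.RFPlus

variable {C : Type u} [Category.{v} C] [Abelian C] [HasDerivedCategory.{w} C] [EnoughInjectives C]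
  {D : Type u'} [Category.{v'} D] [Abelian D] [HasDerivedCategory.{w'} D]
  (F : C ⥤ D) [F.Additive]

/-- `Hⁱ ∘ RF` on bounded below complexes. -/
noncomputable def HR (i : ℤ) : CochainComplex.Plus C ⥤ D :=
  HomotopyCategory.Plus.quotient C ⋙ DerivedCategory.Plus.Qh ⋙ F.rightDerivedFunctorPlus ⋙
    DerivedCategory.Plus.ι ⋙ DerivedCategory.homologyFunctor D i

/-- The naive functor computed in `D(D)`. -/
noncomputable def naiveIso :
    CochainComplex.Plus.ι C ⋙ F.mapHomologicalComplex (ComplexShape.up ℤ) ⋙ DerivedCategory.Q ≅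
      HomotopyCategory.Plus.quotient C ⋙ F.mapHomotopyCategoryPlus ⋙ DerivedCategory.Plus.Qh ⋙
        DerivedCategory.Plus.ι :=
  NatIso.ofComponents
    (fun K => ((DerivedCategory.quotientCompQhIso D).app
      ((F.mapHomologicalComplex (ComplexShape.up ℤ)).obj K.obj)).symm)
    (fun {K L} f => (DerivedCategory.quotientCompQhIso D).inv.naturality
      ((F.mapHomologicalComplex (ComplexShape.up ℤ)).map f.hom))

/-- The comparison from the naive cohomology to `Hⁱ ∘ RF`. -/
noncomputable def θ (i : ℤ) :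
    CochainComplex.Plus.ι C ⋙ F.mapHomologicalComplex (ComplexShape.up ℤ) ⋙
      HomologicalComplex.homologyFunctor D (ComplexShape.up ℤ) i ⟶ HR F i where
  app K := (DerivedCategory.homologyFunctorFactors D i).inv.app _ ≫
    (DerivedCategory.homologyFunctor D i).map ((naiveIso F).hom.app K ≫
      DerivedCategory.Plus.ι.map (F.rightDerivedFunctorPlusUnit.app
        ((HomotopyCategory.Plus.quotient C).obj K)))
  naturality K L f := by
    have h1 := (DerivedCategory.homologyFunctorFactors D i).inv.naturality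
      ((F.mapHomologicalComplex (ComplexShape.up ℤ)).map f.hom)
    have h2 := (naiveIso F).hom.naturality f
    have h3 := DerivedCategory.Plus.ι.congr_map (F.rightDerivedFunctorPlusUnit.naturality
      ((HomotopyCategory.Plus.quotient C).map f))
    simp only [HR, Functor.comp_map, Functor.map_comp] at h1 h2 h3 ⊢
    erw [reassoc_of% h1]
    rw [Category.assoc, Category.assoc]
    congr 1
    rw [← Functor.map_comp, ← Functor.map_comp, ← Functor.map_comp, ← Functor.map_comp]
    congr 1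
    erw [reassoc_of% h2]
    exact congrArg _ h3

theorem isIso_θ_app_iff (i : ℤ) (K : CochainComplex.Plus C) :
    IsIso ((θ F i).app K) ↔ IsIso ((DerivedCategory.homologyFunctor D i).map
      (DerivedCategory.Plus.ι.map (F.rightDerivedFunctorPlusUnit.app
        ((HomotopyCategory.Plus.quotient C).obj K)))) := by
  have ha : IsIso ((DerivedCategory.homologyFunctorFactors D i).inv.app
    ((F.mapHomologicalComplex (ComplexShape.up ℤ)).obj K.obj)) := inferInstance
  have hb : IsIso ((DerivedCategory.homologyFunctor D i).map ((naiveIso F).hom.app K)) :=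
    inferInstance
  change IsIso (_ ≫ (DerivedCategory.homologyFunctor D i).map (_ ≫ _)) ↔ _
  rw [Functor.map_comp]
  constructor
  · intro h
    exact @IsIso.of_isIso_comp_left _ _ _ _ _ _ _ hb (@IsIso.of_isIso_comp_left _ _ _ _ _ _ _ ha h)
  · intro h
    exact @IsIso.comp_isIso _ _ _ _ _ _ _ ha (@IsIso.comp_isIso _ _ _ _ _ _ _ hb h)

instance isIso_θ_app (i : ℤ) (K : CochainComplex.Plus C) [∀ n, Injective (K.obj.X n)] :
    IsIso ((θ F i).app K) := by
  rw [isIso_θ_app_iff]; infer_instance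

theorem isIso_HR_map (i : ℤ) {K L : CochainComplex.Plus C} (j : K ⟶ L) [QuasiIso j.hom] :
    IsIso ((HR F i).map j) := by
  have : IsIso (DerivedCategory.Plus.Qh.map ((HomotopyCategory.Plus.quotient C).map j)) :=
    Localization.inverts DerivedCategory.Plus.Qh (HomotopyCategory.Plus.quasiIso C) _
      (show HomotopyCategory.quasiIso C (ComplexShape.up ℤ) ((HomotopyCategory.quotient C (ComplexShape.up ℤ)).map j.hom) by
        rw [HomotopyCategory.quotient_map_mem_quasiIso_iff, HomologicalComplex.mem_quasiIso_iff]; infer_instance)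
  exact Functor.map_isIso (F.rightDerivedFunctorPlus ⋙ DerivedCategory.Plus.ι ⋙
    DerivedCategory.homologyFunctor D i)
    (DerivedCategory.Plus.Qh.map ((HomotopyCategory.Plus.quotient C).map j))

/-- The unit at `K` is invertible iff `F` preserves an injective resolution of `K`. -/
theorem isIso_unit_iff {K I : CochainComplex.Plus C} (j : K ⟶ I) [QuasiIso j.hom]
    [∀ n, Injective (I.obj.X n)] :
    IsIso (F.rightDerivedFunctorPlusUnit.app ((HomotopyCategory.Plus.quotient C).obj K)) ↔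
      QuasiIso ((F.mapHomologicalComplex (ComplexShape.up ℤ)).map j.hom) := by
  have key : ∀ i, IsIso ((θ F i).app K) ↔
      IsIso (HomologicalComplex.homologyMap ((F.mapHomologicalComplex (ComplexShape.up ℤ)).map j.hom) i) := by
    intro i
    have h := (θ F i).naturality j
    have hm := isIso_HR_map F i j
    have hI := isIso_θ_app F i I
    constructor
    · intro hK
      have h' : IsIso ((θ F i).app K ≫ (HR F i).map j) := @IsIso.comp_isIso _ _ _ _ _ _ _ hK hm
      rw [← h] at h'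
      exact @IsIso.of_isIso_comp_right _ _ _ _ _ _ ((θ F i).app I) hI h'
    · intro hj
      have h' : IsIso ((CochainComplex.Plus.ι C ⋙ F.mapHomologicalComplex (ComplexShape.up ℤ) ⋙
          HomologicalComplex.homologyFunctor D (ComplexShape.up ℤ) i).map j ≫ (θ F i).app I) :=
        @IsIso.comp_isIso _ _ _ _ _ _ _ hj hI
      rw [h] at h'
      exact @IsIso.of_isIso_comp_right _ _ _ _ _ _ ((HR F i).map j) hm h'
  rw [quasiIso_iff]
  constructor
  · intro h i
    rw [quasiIsoAt_iff_isIso_homologyMap, ← key, isIso_θ_app_iff]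
    infer_instance
  · intro h
    rw [← isIso_iff_of_reflects_iso _ (DerivedCategory.Plus.ι (C := D)), DerivedCategory.isIso_iff]
    intro i
    rw [← isIso_θ_app_iff, key, ← quasiIsoAt_iff_isIso_homologyMap]
    exact h i

omit [HasDerivedCategory.{w} C] [EnoughInjectives C] [HasDerivedCategory.{w'} D] in
/-- `F` preserves short exact sequences of complexes with injective first term. -/
theorem shortExact_map_of_injective (T : ShortComplex (CochainComplex C ℤ)) (hT : T.ShortExact)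
    (hinj : ∀ k, Injective (T.X₁.X k)) :
    (T.map (F.mapHomologicalComplex (ComplexShape.up ℤ))).ShortExact := by
  refine HomologicalComplex.shortExact_of_degreewise_shortExact _ fun k => ?_
  have hk := hT.map_of_exact (HomologicalComplex.eval C (ComplexShape.up ℤ) k)
  have : Injective ((T.map (HomologicalComplex.eval C (ComplexShape.up ℤ) k)).X₁) := hinj k
  exact (hk.splittingOfInjective.map F).shortExact

theorem subobject_eq_of_exact {A : Type u'} [Category.{v'} A] [Abelian A] {X Y Z : A}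
    (f : X ⟶ Y) (g : Y ⟶ Z) (w : f ≫ g = 0) (h : (ShortComplex.mk f g w).Exact) :
    kernelSubobject g = imageSubobject f := by
  have := h.isIso_imageToKernel
  refine le_antisymm ?_ (image_le_kernel f g w)
  exact Subobject.le_of_comm (inv (imageToKernel f g w)) (by
    rw [IsIso.inv_comp_eq, imageToKernel_arrow])

/-- Long exact cohomology sequence of `RF`. -/
theorem exists_long_exact {X₁ X₂ X₃ : CochainComplex.Plus C} (f : X₁ ⟶ X₂) (g : X₂ ⟶ X₃)
    (w : f.hom ≫ g.hom = 0) (hS : (ShortComplex.mk f.hom g.hom w).ShortExact) (i : ℤ) :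
    ∃ (w₂ : (HR F i).map f ≫ (HR F i).map g = 0)
      (δ : (HR F i).obj X₃ ⟶ (HR F (i + 1)).obj X₁)
      (w₃ : (HR F i).map g ≫ δ = 0) (w₁ : δ ≫ (HR F (i + 1)).map f = 0),
      (ShortComplex.mk _ _ w₂).Exact ∧ (ShortComplex.mk _ _ w₃).Exact ∧
        (ShortComplex.mk _ _ w₁).Exact := by
  obtain ⟨n₁, h₁⟩ := X₁.property
  obtain ⟨n₂, h₂⟩ := X₂.property
  obtain ⟨n₃, h₃⟩ := X₃.property
  obtain ⟨n, hn⟩ : ∃ n, min n₁ (min n₂ n₃) = n := ⟨_, rfl⟩
  have : X₁.obj.IsStrictlyGE n := X₁.obj.isStrictlyGE_of_ge n n₁ (by omega)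
  have : X₂.obj.IsStrictlyGE n := X₂.obj.isStrictlyGE_of_ge n n₂ (by omega)
  have : X₃.obj.IsStrictlyGE n := X₃.obj.isStrictlyGE_of_ge n n₃ (by omega)
  obtain ⟨T, φ, hT, g₁, g₂, g₃, hinj, q₁, q₂, q₃⟩ :=
    exists_shortExact_injective (ShortComplex.mk f.hom g.hom w) hS n
  let Y₁ : CochainComplex.Plus C := ⟨T.X₁, n, g₁⟩
  let Y₂ : CochainComplex.Plus C := ⟨T.X₂, n, g₂⟩
  let Y₃ : CochainComplex.Plus C := ⟨T.X₃, n, g₃⟩
  let a : Y₁ ⟶ Y₂ := ObjectProperty.homMk T.f
  let b : Y₂ ⟶ Y₃ := ObjectProperty.homMk T.g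
  let p₁ : X₁ ⟶ Y₁ := ObjectProperty.homMk φ.τ₁
  let p₂ : X₂ ⟶ Y₂ := ObjectProperty.homMk φ.τ₂
  let p₃ : X₃ ⟶ Y₃ := ObjectProperty.homMk φ.τ₃
  have : QuasiIso p₁.hom := q₁
  have : QuasiIso p₂.hom := q₂
  have : QuasiIso p₃.hom := q₃
  have hY₁ : ∀ k, Injective (Y₁.obj.X k) := fun k => (hinj k).1
  have hY₂ : ∀ k, Injective (Y₂.obj.X k) := fun k => (hinj k).2.1
  have hY₃ : ∀ k, Injective (Y₃.obj.X k) := fun k => (hinj k).2.2
  have c₁ : p₁ ≫ a = f ≫ p₂ := ObjectProperty.hom_ext _ φ.comm₁₂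
  have c₂ : p₂ ≫ b = g ≫ p₃ := ObjectProperty.hom_ext _ φ.comm₂₃
  have hFT := shortExact_map_of_injective F T hT (fun k => (hinj k).1)
  have := isIso_HR_map F i p₁
  have := isIso_HR_map F i p₂
  have := isIso_HR_map F i p₃
  have := isIso_HR_map F (i + 1) p₁
  have := isIso_HR_map F (i + 1) p₂
  let E₁ := asIso ((θ F i).app Y₁) ≪≫ (asIso ((HR F i).map p₁)).symm
  let E₂ := asIso ((θ F i).app Y₂) ≪≫ (asIso ((HR F i).map p₂)).symm
  let E₃ := asIso ((θ F i).app Y₃) ≪≫ (asIso ((HR F i).map p₃)).symm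
  let E₁' := asIso ((θ F (i + 1)).app Y₁) ≪≫ (asIso ((HR F (i + 1)).map p₁)).symm
  let E₂' := asIso ((θ F (i + 1)).app Y₂) ≪≫ (asIso ((HR F (i + 1)).map p₂)).symm
  have comp : ∀ (j : ℤ) {Xa Xb Ya Yb : CochainComplex.Plus C} (u : Xa ⟶ Xb) (v : Ya ⟶ Yb)
      (pa : Xa ⟶ Ya) (pb : Xb ⟶ Yb) [IsIso ((HR F j).map pa)] [IsIso ((HR F j).map pb)],
      pa ≫ v = u ≫ pb →
      ((θ F j).app Ya ≫ inv ((HR F j).map pa)) ≫ (HR F j).map u =
      HomologicalComplex.homologyMap ((F.mapHomologicalComplex (ComplexShape.up ℤ)).map v.hom) j ≫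
        ((θ F j).app Yb ≫ inv ((HR F j).map pb)) := by
    intro j Xa Xb Ya Yb u v pa pb _ _ h
    have h' : inv ((HR F j).map pa) ≫ (HR F j).map u = (HR F j).map v ≫ inv ((HR F j).map pb) := by
      rw [IsIso.inv_comp_eq, ← Category.assoc, IsIso.eq_comp_inv, ← Functor.map_comp,
        ← Functor.map_comp, h]
    rw [Category.assoc, h', ← Category.assoc]
    erw [← (θ F j).naturality v]
    exact Category.assoc _ _ _
  let δ : (HR F i).obj X₃ ⟶ (HR F (i + 1)).obj X₁ :=
    E₃.inv ≫ hFT.δ i (i + 1) (by simp) ≫ E₁'.hom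
  have s₁ : E₁.hom ≫ (HR F i).map f =
      HomologicalComplex.homologyMap ((F.mapHomologicalComplex (ComplexShape.up ℤ)).map T.f) i ≫
        E₂.hom := comp i f a p₁ p₂ c₁
  have s₂ : E₂.hom ≫ (HR F i).map g =
      HomologicalComplex.homologyMap ((F.mapHomologicalComplex (ComplexShape.up ℤ)).map T.g) i ≫
        E₃.hom := comp i g b p₂ p₃ c₂
  have s₁' : E₁'.hom ≫ (HR F (i + 1)).map f =
      HomologicalComplex.homologyMap ((F.mapHomologicalComplex (ComplexShape.up ℤ)).map T.f) (i + 1) ≫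
        E₂'.hom := comp (i + 1) f a p₁ p₂ c₁
  have sδ : E₃.hom ≫ δ = hFT.δ i (i + 1) (by simp) ≫ E₁'.hom := E₃.hom_inv_id_assoc _
  have chain : ∀ {P₁ P₂ P₃ Q₁ Q₂ Q₃ : D} (e₁ : P₁ ≅ Q₁) (e₂ : P₂ ⟶ Q₂) (e₃ : P₃ ⟶ Q₃)
      (u : P₁ ⟶ P₂) (v : P₂ ⟶ P₃) (u' : Q₁ ⟶ Q₂) (v' : Q₂ ⟶ Q₃),
      e₁.hom ≫ u' = u ≫ e₂ → e₂ ≫ v' = v ≫ e₃ → u ≫ v = 0 → u' ≫ v' = 0 := by
    intro P₁ P₂ P₃ Q₁ Q₂ Q₃ e₁ e₂ e₃ u v u' v' hu hv huv
    rw [← cancel_epi e₁.hom, comp_zero, reassoc_of% hu, hv, reassoc_of% huv, zero_comp]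
  have w₂ : (HR F i).map f ≫ (HR F i).map g = 0 := by
    refine chain E₁ E₂.hom E₃.hom _ _ _ _ s₁ s₂ ?_
    refine (HomologicalComplex.homologyMap_comp _ _ i).symm.trans ?_
    rw [← Functor.map_comp, T.zero, Functor.map_zero, HomologicalComplex.homologyMap_zero]; rfl
  have w₃ : (HR F i).map g ≫ δ = 0 :=
    chain E₂ E₃.hom E₁'.hom _ _ _ _ s₂ sδ (hFT.comp_δ i (i + 1) (by simp))
  have w₁ : δ ≫ (HR F (i + 1)).map f = 0 :=
    chain E₃ E₁'.hom E₂'.hom _ _ _ _ sδ s₁' (hFT.δ_comp i (i + 1) (by simp))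
  exact ⟨w₂, δ, w₃, w₁, ShortComplex.exact_of_iso (ShortComplex.isoMk E₁ E₂ E₃ s₁ s₂)
      (hFT.homology_exact₂ i),
    ShortComplex.exact_of_iso (ShortComplex.isoMk E₂ E₃ E₁' s₂ sδ)
      (hFT.homology_exact₃ i (i + 1) (by simp)),
    ShortComplex.exact_of_iso (ShortComplex.isoMk E₃ E₁' E₂' sδ s₁')
      (hFT.homology_exact₁ i (i + 1) (by simp))⟩

/-- `RF` preserves cohomological bounds below. -/
theorem isGE_rightDerivedFunctorPlus (K : DerivedCategory.Plus C) (a : ℤ) [K.IsGE a] :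
    (F.rightDerivedFunctorPlus.obj K).IsGE a := by
  obtain ⟨L, _, ⟨e⟩⟩ := DerivedCategory.Plus.exists_injective_nonempty_iso K a
  let M := (InjectiveObject.ι C).mapCochainComplexPlus.obj L
  have : M.obj.IsStrictlyGE a := by
    change CochainComplex.IsStrictlyGE (((InjectiveObject.ι C).mapHomologicalComplex (ComplexShape.up ℤ)).obj L.obj) a
    rw [CochainComplex.isStrictlyGE_mapHomologicalComplex_obj_iff]; infer_instance
  rw [← DerivedCategory.Plus.isGE_ι_obj_iff]
  have hM : DerivedCategory.IsGE (DerivedCategory.Q.obj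
      ((F.mapHomologicalComplex (ComplexShape.up ℤ)).obj M.obj)) a := by
    have : CochainComplex.IsStrictlyGE ((F.mapHomologicalComplex (ComplexShape.up ℤ)).obj M.obj) a := by
      rw [CochainComplex.isStrictlyGE_iff]
      exact fun k hk => F.map_isZero (CochainComplex.isZero_of_isStrictlyGE M.obj a k hk)
    infer_instance
  exact @TStructure.isGE_of_iso _ _ _ _ _ _ _ DerivedCategory.TStructure.t _ _ ((naiveIso F).app M ≪≫
    asIso (DerivedCategory.Plus.ι.map (F.rightDerivedFunctorPlusUnit.app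
      ((HomotopyCategory.Plus.quotient C).obj M))) ≪≫
    (F.rightDerivedFunctorPlus ⋙ DerivedCategory.Plus.ι).mapIso e) a hM

end Groth.Agent.RFPlus
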