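import Mathlib.Algebra.Homology.HomologySequenceLemmas
import Mathlib.Algebra.Homology.HomologicalComplexAbelian
import Groth.Agent.Lib.ClassRes.Basic
import Mathlib.CategoryTheory.Abelian.Injective.Basic

/-!
Short exact sequences of bounded below complexes: injective resolutions.
-/

set_option autoImplicit false

universe v u

open CategoryTheory CategoryTheory.Limits HomologicalComplex ZeroObject

namespace Groth.Agent.RFPlus

variable {A : Type u} [Category.{v} A] [Abelian A]

/-- Two out of three for short exact sequences of complexes: the middle morphism. -/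
theorem quasiIso_τ₂ {S₁ S₂ : ShortComplex (CochainComplex A ℤ)} (φ : S₁ ⟶ S₂)
    (hS₁ : S₁.ShortExact) (hS₂ : S₂.ShortExact) (h₁ : QuasiIso φ.τ₁) (h₃ : QuasiIso φ.τ₃) :
    QuasiIso φ.τ₂ := by
  rw [quasiIso_iff]
  intro i
  rw [quasiIsoAt_iff_isIso_homologyMap]
  have hm : Mono (homologyMap φ.τ₂ i) := by
    apply Abelian.mono_of_epi_of_mono_of_mono
      ((ComposableArrows.δ₀Functor ⋙ ComposableArrows.δ₀Functor).map
        (HomologySequence.mapComposableArrows₅ φ hS₁ hS₂ (i - 1) i (by simp)))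
    · exact (HomologySequence.composableArrows₅_exact hS₁ (i - 1) i (by simp)).δ₀.δ₀
    · exact (HomologySequence.composableArrows₅_exact hS₂ (i - 1) i (by simp)).δ₀.δ₀
    · exact (inferInstance : Epi (homologyMap φ.τ₃ (i - 1)))
    · exact (inferInstance : Mono (homologyMap φ.τ₁ i))
    · exact (inferInstance : Mono (homologyMap φ.τ₃ i))
  have he : Epi (homologyMap φ.τ₂ i) := by
    apply Abelian.epi_of_epi_of_epi_of_mono
      ((ComposableArrows.δlastFunctor ⋙ ComposableArrows.δlastFunctor).map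
        (HomologySequence.mapComposableArrows₅ φ hS₁ hS₂ i (i + 1) (by simp)))
    · exact (HomologySequence.composableArrows₅_exact hS₁ i (i + 1) (by simp)).δlast.δlast
    · exact (HomologySequence.composableArrows₅_exact hS₂ i (i + 1) (by simp)).δlast.δlast
    · exact (inferInstance : Epi (homologyMap φ.τ₁ i))
    · exact (inferInstance : Epi (homologyMap φ.τ₃ i))
    · exact (inferInstance : Mono (homologyMap φ.τ₁ (i + 1)))
  exact isIso_of_mono_of_epi _

/-- Pushout of a short exact sequence along a morphism out of its first term. -/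
theorem exists_pushout_shortExact (S : ShortComplex (CochainComplex A ℤ)) (hS : S.ShortExact)
    {I : CochainComplex A ℤ} (j : S.X₁ ⟶ I) :
    ∃ (T : ShortComplex (CochainComplex A ℤ)) (φ : S ⟶ T) (e : T.X₁ ≅ I),
      T.ShortExact ∧ φ.τ₁ ≫ e.hom = j ∧ IsIso φ.τ₃ := by
  have := hS.mono_f
  have := hS.epi_g
  let h : pushout j S.f ⟶ S.X₃ := pushout.desc 0 S.g (by rw [comp_zero, S.zero])
  have hinr : pushout.inr j S.f ≫ h = S.g := pushout.inr_desc _ _ _
  have hinl : pushout.inl j S.f ≫ h = 0 := pushout.inl_desc _ _ _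
  let T := ShortComplex.mk (pushout.inl j S.f) h hinl
  have : Epi h := epi_of_epi_fac hinr
  have hT : T.Exact := by
    refine T.exact_of_g_is_cokernel (CokernelCofork.IsColimit.ofπ' _ _ fun {W} k hk => ?_)
    have hk' : S.f ≫ pushout.inr j S.f ≫ k = 0 := by
      rw [← pushout.condition_assoc]
      exact (congrArg (j ≫ ·) hk).trans comp_zero
    refine ⟨hS.gIsCokernel.desc (CokernelCofork.ofπ _ hk'), ?_⟩
    have hd : S.g ≫ hS.gIsCokernel.desc (CokernelCofork.ofπ _ hk') = pushout.inr j S.f ≫ k :=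
      hS.gIsCokernel.fac _ WalkingParallelPair.one
    apply pushout.hom_ext
    · change pushout.inl j S.f ≫ h ≫ _ = pushout.inl j S.f ≫ k
      rw [reassoc_of% hinl, zero_comp]
      exact hk.symm
    · change pushout.inr j S.f ≫ h ≫ _ = pushout.inr j S.f ≫ k
      rw [reassoc_of% hinr, hd]
  refine ⟨T, { τ₁ := j, τ₂ := pushout.inr j S.f, τ₃ := 𝟙 _,
               comm₁₂ := pushout.condition, comm₂₃ := hinr.trans (Category.comp_id _).symm },
    Iso.refl _, { exact := hT }, Category.comp_id _, inferInstanceAs (IsIso (𝟙 _))⟩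

variable [EnoughInjectives A]

/-- Horseshoe lemma for bounded below complexes. -/
theorem exists_shortExact_injective (S : ShortComplex (CochainComplex A ℤ)) (hS : S.ShortExact)
    (n : ℤ) [S.X₁.IsStrictlyGE n] [S.X₂.IsStrictlyGE n] [S.X₃.IsStrictlyGE n] :
    ∃ (T : ShortComplex (CochainComplex A ℤ)) (φ : S ⟶ T), T.ShortExact ∧
      T.X₁.IsStrictlyGE n ∧ T.X₂.IsStrictlyGE n ∧ T.X₃.IsStrictlyGE n ∧
      (∀ k : ℤ, Injective (T.X₁.X k) ∧ Injective (T.X₂.X k) ∧ Injective (T.X₃.X k)) ∧
      QuasiIso φ.τ₁ ∧ QuasiIso φ.τ₂ ∧ QuasiIso φ.τ₃ := by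
  obtain ⟨I₁, j₁, hI₁, hinj₁, hmono₁, hq₁⟩ :=
    Groth.Agent.ClassRes.exists_resolution_mono (I := fun X : A => Injective X)
      ⟨0, isZero_zero A, inferInstance⟩
      (fun X => ⟨Injective.under X, Injective.ι X, inferInstance, inferInstance⟩) S.X₁ n
  obtain ⟨T', φ', e, hT', he, h3⟩ := exists_pushout_shortExact S hS j₁
  have hQ1 : QuasiIso φ'.τ₁ := by
    have : φ'.τ₁ = j₁ ≫ e.inv := by rw [← he, Category.assoc, e.hom_inv_id, Category.comp_id]
    rw [this]; infer_instance
  have hQ2 : QuasiIso φ'.τ₂ := quasiIso_τ₂ φ' hS hT' hQ1 inferInstance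
  have hev : ∀ k, (T'.map (HomologicalComplex.eval A (ComplexShape.up ℤ) k)).ShortExact :=
    fun k => hT'.map_of_exact _
  have hinj' : ∀ k, Injective (T'.X₁.X k) := fun k =>
    Injective.of_iso ((HomologicalComplex.eval A (ComplexShape.up ℤ) k).mapIso e).symm (hinj₁ k)
  have hGE' : T'.X₂.IsStrictlyGE n := by
    rw [CochainComplex.isStrictlyGE_iff]
    intro i hi
    refine (hev i).exact.isZero_of_both_zeros ?_ ?_
    · exact (((CochainComplex.isZero_of_isStrictlyGE I₁ n i hi).of_iso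
        ((HomologicalComplex.eval A (ComplexShape.up ℤ) i).mapIso e))).eq_of_src _ _
    · exact (((CochainComplex.isZero_of_isStrictlyGE S.X₃ n i hi).of_iso
        ((HomologicalComplex.eval A (ComplexShape.up ℤ) i).mapIso (asIso φ'.τ₃).symm))).eq_of_tgt _ _
  obtain ⟨I₂, j₂, hI₂, hinj₂, hmono₂, hq₂⟩ :=
    Groth.Agent.ClassRes.exists_resolution_mono (I := fun X : A => Injective X)
      ⟨0, isZero_zero A, inferInstance⟩
      (fun X => ⟨Injective.under X, Injective.ι X, inferInstance, inferInstance⟩) T'.X₂ n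
  have : Mono j₂ := HomologicalComplex.mono_of_mono_f _ hmono₂
  have := hT'.mono_f
  have hm : Mono (T'.f ≫ j₂) := inferInstance
  let T : ShortComplex (CochainComplex A ℤ) :=
    ShortComplex.mk (T'.f ≫ j₂) (cokernel.π (T'.f ≫ j₂)) (cokernel.condition _)
  have hT : T.ShortExact := { exact := ShortComplex.exact_cokernel _ }
  let ψ : T' ⟶ T :=
    { τ₁ := 𝟙 _
      τ₂ := j₂
      τ₃ := hT'.gIsCokernel.desc (CokernelCofork.ofπ (j₂ ≫ cokernel.π (T'.f ≫ j₂))
        (by rw [← Category.assoc, cokernel.condition]))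
      comm₁₂ := Category.id_comp _
      comm₂₃ := (hT'.gIsCokernel.fac (CokernelCofork.ofπ (j₂ ≫ cokernel.π (T'.f ≫ j₂))
        (by rw [← Category.assoc, cokernel.condition])) WalkingParallelPair.one).symm }
  have hψ : QuasiIso ψ.τ₃ :=
    HomologicalComplex.HomologySequence.quasiIso_τ₃ ψ hT' hT (inferInstanceAs (QuasiIso (𝟙 _))) hq₂
  refine ⟨T, φ' ≫ ψ, hT, ?_, hI₂, ?_, fun k => ⟨hinj' k, hinj₂ k, ?_⟩, ?_, ?_, ?_⟩
  · rw [CochainComplex.isStrictlyGE_iff]
    exact fun i hi => (CochainComplex.isZero_of_isStrictlyGE I₁ n i hi).of_iso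
      ((HomologicalComplex.eval A (ComplexShape.up ℤ) i).mapIso e)
  · rw [CochainComplex.isStrictlyGE_iff]
    intro i hi
    have := (hT.map_of_exact (HomologicalComplex.eval A (ComplexShape.up ℤ) i)).epi_g
    exact IsZero.of_epi ((cokernel.π (T'.f ≫ j₂)).f i)
      (CochainComplex.isZero_of_isStrictlyGE I₂ n i hi)
  · have hk := hT.map_of_exact (HomologicalComplex.eval A (ComplexShape.up ℤ) k)
    have : Injective ((T.map (HomologicalComplex.eval A (ComplexShape.up ℤ) k)).X₁) := hinj' k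
    let s := hk.splittingOfInjective
    have : Injective ((T.map (HomologicalComplex.eval A (ComplexShape.up ℤ) k)).X₂) := hinj₂ k
    exact Retract.injective { i := s.s, r := _, retract := s.s_g }
  · exact inferInstanceAs (QuasiIso (φ'.τ₁ ≫ 𝟙 _))
  · exact inferInstanceAs (QuasiIso (φ'.τ₂ ≫ j₂))
  · exact inferInstanceAs (QuasiIso (φ'.τ₃ ≫ ψ.τ₃))

end Groth.Agent.RFPlus
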